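/-
Ext groups and filtered colimits in Grothendieck abelian categories.
-/
import Mathlib.CategoryTheory.Abelian.GrothendieckCategory.EnoughInjectives
import Mathlib.CategoryTheory.Abelian.FunctorCategory
import Mathlib.CategoryTheory.Abelian.GrothendieckCategory.HasExt
import Mathlib.Algebra.Homology.DerivedCategory.Ext.EnoughInjectives
import Mathlib.Algebra.Homology.DerivedCategory.Ext.ExactSequences
import Mathlib.Algebra.Homology.ShortComplex.ShortExact
import Mathlib.Algebra.Category.Grp.FilteredColimits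
import Mathlib.CategoryTheory.Limits.Types.Filtered

set_option autoImplicit false
set_option linter.style.haveILetI false

universe w v u

open CategoryTheory CategoryTheory.Limits CategoryTheory.Abelian Opposite MorphismProperty

namespace FiltExtLib

variable {A : Type u} [Category.{v} A] [Abelian A] [IsGrothendieckAbelian.{w} A]

/-- `X ↦ (X ⟶ 0)`. -/
noncomputable def toZeroArrow : A ⥤ Arrow A :=
  open ZeroObject in
  { obj := fun X => Arrow.mk (0 : X ⟶ 0)
    map := fun f => Arrow.homMk f (𝟙 _) (by simp) }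

/-- A functorial embedding into injectives. -/
noncomputable def injEmb : A ⥤ A :=
  toZeroArrow ⋙ (functorialFactorizationData (monomorphisms A) (monomorphisms A).rlp).Z

/-- The embedding. -/
noncomputable def injEmbι : 𝟭 A ⟶ injEmb (A := A) :=
  Functor.whiskerLeft toZeroArrow (functorialFactorizationData (monomorphisms A) (monomorphisms A).rlp).i

instance (X : A) : Mono ((injEmbι (A := A)).app X) :=
  (functorialFactorizationData (monomorphisms A) (monomorphisms A).rlp).hi (toZeroArrow.obj X)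

lemma injective_injEmb (X : A) : Injective (injEmb.obj X) :=
  open ZeroObject in
  (inferInstance : Injective (IsGrothendieckAbelian.monoMapFactorizationDataRlp (0 : X ⟶ (0 : A))).Z)

variable {Λ : Type w} [SmallCategory Λ] [HasExt.{w} A]

/-- `Ext^q(M, -)` commutes with the colimit of every diagram of shape `Λ`. -/
def ExtComm (M : A) (Λ : Type w) [SmallCategory Λ] (q : ℕ) : Prop :=
  ∀ (D : Λ ⥤ A),
    (∀ x : Ext M (colimit D) q, ∃ (i : Λ) (y : Ext M (D.obj i) q),
      y.comp (Ext.mk₀ (colimit.ι D i)) (add_zero q) = x) ∧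
    ∀ (i : Λ) (y : Ext M (D.obj i) q), y.comp (Ext.mk₀ (colimit.ι D i)) (add_zero q) = 0 →
      ∃ (j : Λ) (φ : i ⟶ j), y.comp (Ext.mk₀ (D.map φ)) (add_zero q) = 0

lemma extComm_zero {M : A}
    (hs : ∀ (D : Λ ⥤ A) (t : M ⟶ colimit D), ∃ (i : Λ) (s : M ⟶ D.obj i), s ≫ colimit.ι D i = t)
    (hi : ∀ (D : Λ ⥤ A) (i : Λ) (s : M ⟶ D.obj i), s ≫ colimit.ι D i = 0 → ∃ (j : Λ) (φ : i ⟶ j), s ≫ D.map φ = 0) :
    ExtComm M Λ 0 := fun D => by
  refine ⟨fun x => ?_, fun i y h => ?_⟩
  · obtain ⟨t, rfl⟩ := Ext.addEquiv₀.symm.surjective x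
    obtain ⟨i, s, rfl⟩ := hs D t
    exact ⟨i, Ext.mk₀ s, Ext.mk₀_comp_mk₀ _ _⟩
  · obtain ⟨s, rfl⟩ := Ext.addEquiv₀.symm.surjective y
    rw [Ext.addEquiv₀_symm_apply, Ext.mk₀_comp_mk₀] at h
    obtain ⟨j, φ, hj⟩ := hi D i s (Ext.addEquiv₀.symm.injective (by simpa using h))
    exact ⟨j, φ, by rw [Ext.addEquiv₀_symm_apply, Ext.mk₀_comp_mk₀, hj, Ext.mk₀_zero]⟩

/-- Post-composition with a morphism. -/
noncomputable def push {M X Y : A} {q : ℕ} (f : X ⟶ Y) (x : Ext M X q) : Ext M Y q :=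
  x.comp (Ext.mk₀ f) (add_zero q)

lemma push_push {M X Y Z : A} {q : ℕ} (f : X ⟶ Y) (g : Y ⟶ Z) (x : Ext M X q) :
    push g (push f x) = push (f ≫ g) x := by
  simp [push]

lemma push_sub {M X Y : A} {q : ℕ} (f : X ⟶ Y) (x y : Ext M X q) : push f (x - y) = push f x - push f y := by
  simp [push, sub_eq_add_neg]

lemma push_congr {M X Y : A} {q : ℕ} {f g : X ⟶ Y} (h : f = g) (x : Ext M X q) : push f x = push g x := by
  rw [h]

lemma push_comp_ext {M A₁ A₃ B₁ B₃ : A} {q : ℕ} (e : Ext A₃ A₁ 1) (e' : Ext B₃ B₁ 1) (f₁ : A₁ ⟶ B₁)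
    (f₃ : A₃ ⟶ B₃) (h : e.comp (Ext.mk₀ f₁) (add_zero 1) = (Ext.mk₀ f₃).comp e' (zero_add 1)) (z : Ext M A₃ q) :
    push f₁ (z.comp e (rfl : q + 1 = q + 1)) = (push f₃ z).comp e' rfl := by
  simp only [push]
  rw [Ext.comp_assoc_of_third_deg_zero, h, Ext.comp_assoc_of_second_deg_zero]

lemma push_extClass {M : A} {q : ℕ} {T : ShortComplex A} (hT : T.ShortExact) (x : Ext M T.X₂ q) :
    (push T.g x).comp hT.extClass (rfl : q + 1 = q + 1) = 0 := by
  simp only [push]
  rw [Ext.comp_assoc_of_second_deg_zero, hT.comp_extClass, Ext.comp_zero]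

variable [IsFiltered Λ]

lemma extComm_succ {M : A} {q : ℕ} (hq : ExtComm M Λ q)
    (hv : ∀ I : Λ ⥤ A, (∀ i, Injective (I.obj i)) → Subsingleton (Ext M (colimit I) (q + 1))) :
    ExtComm M Λ (q + 1) := by
  intro D
  let I := D ⋙ injEmb
  let η : D ⟶ I := Functor.whiskerLeft D injEmbι
  haveI : ∀ i, Mono (η.app i) := fun i => inferInstanceAs (Mono (injEmbι.app (D.obj i)))
  haveI : Mono η := NatTrans.mono_of_mono_app η
  let S : ShortComplex (Λ ⥤ A) := ShortComplex.mk η (cokernel.π η) (cokernel.condition η)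
  have hS : S.ShortExact := { exact := ShortComplex.exact_cokernel η }
  let Sc := S.map (colim (J := Λ) (C := A))
  have hc : Sc.ShortExact := hS.map_of_exact _
  let Si := fun i => S.map ((evaluation Λ A).obj i)
  have hi : ∀ i, (Si i).ShortExact := fun i => hS.map_of_exact _
  let τ : ∀ i, (evaluation Λ A).obj i ⟶ colim := fun i =>
    { app := fun F => colimit.ι F i
      naturality := fun F G f => (colimit.ι_map f i).symm }
  have key : ∀ i, (hi i).extClass.comp (Ext.mk₀ (colimit.ι D i)) (add_zero 1) =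
      (Ext.mk₀ (colimit.ι S.X₃ i)).comp hc.extClass (zero_add 1) := fun i =>
    ShortComplex.ShortExact.extClass_naturality (hi i) hc (S.mapNatTrans (τ i))
  haveI hIv : Subsingleton (Ext M Sc.X₂ (q + 1)) := hv I fun i => injective_injEmb _
  refine ⟨fun x => ?_, fun i y h => ?_⟩
  · obtain ⟨z, hz⟩ := Ext.covariant_sequence_exact₁ M hc x (Subsingleton.elim _ _) (n₀ := q) rfl
    obtain ⟨i, zi, hzi⟩ := (hq S.X₃).1 z
    exact ⟨i, zi.comp (hi i).extClass rfl, (push_comp_ext _ _ _ _ (key i) zi).trans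
      ((congrArg (fun t : Ext M Sc.X₃ q => t.comp hc.extClass rfl) hzi).trans hz)⟩
  · haveI : ∀ k, Subsingleton (Ext M (Si k).X₂ (q + 1)) := fun k =>
      haveI : Injective (Si k).X₂ := injective_injEmb (D.obj k)
      subsingleton_of_forall_eq 0 Ext.eq_zero_of_injective
    obtain ⟨z, hz⟩ := Ext.covariant_sequence_exact₁ M (hi i) y (Subsingleton.elim _ _) (n₀ := q) rfl
    have h' : (push (colimit.ι S.X₃ i) z).comp hc.extClass rfl = 0 :=
      (push_comp_ext _ _ _ _ (key i) z).symm.trans ((congrArg (push (colimit.ι D i)) hz).trans h)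
    obtain ⟨w, hw⟩ := Ext.covariant_sequence_exact₃ M hc _ rfl h'
    obtain ⟨j, wj, hwj⟩ := (hq S.X₂).1 w
    obtain ⟨k, a, b, -⟩ := IsFilteredOrEmpty.cocone_objs i j
    let d : Ext M (S.X₃.obj k) q := push (S.X₃.map a) z - push (S.g.app k) (push (S.X₂.map b) wj)
    have hd : push (colimit.ι S.X₃ k) d = 0 := by
      refine (push_sub _ _ _).trans (sub_eq_zero.2 ?_)
      refine ((push_push _ _ z).trans (push_congr (colimit.w S.X₃ a) z)).trans (hw.symm.trans ?_)
      refine (congrArg (push Sc.g) hwj.symm).trans ?_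
      refine ((push_push _ _ wj).trans (push_congr ?_ wj)).trans (((push_push _ _ _).trans (push_push _ _ wj)).symm)
      change colimit.ι S.X₂ j ≫ colimMap S.g = S.X₂.map b ≫ S.g.app k ≫ colimit.ι S.X₃ k
      rw [ι_colimMap, ← colimit.w S.X₃ b, NatTrans.naturality_assoc]
    obtain ⟨l, ψ, hl⟩ := (hq S.X₃).2 k d hd
    refine ⟨l, a ≫ ψ, ?_⟩
    have e₁ : (hi i).extClass.comp (Ext.mk₀ (D.map (a ≫ ψ))) (add_zero 1) =
        (Ext.mk₀ (S.X₃.map (a ≫ ψ))).comp (hi l).extClass (zero_add 1) :=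
      ShortComplex.ShortExact.extClass_naturality (hi i) (hi l) (S.mapNatTrans ((evaluation Λ A).map (a ≫ ψ)))
    have e₂ : push (S.X₃.map (a ≫ ψ)) z = push (S.g.app l) (push (S.X₂.map (b ≫ ψ)) wj) := by
      have h0 := sub_eq_zero.1 ((push_sub (S.X₃.map ψ) _ _).symm.trans hl)
      refine ((push_congr (S.X₃.map_comp a ψ) z).trans (push_push _ _ z).symm).trans (h0.trans ?_)
      refine (((push_push _ _ _).trans (push_push _ _ wj)).trans (push_congr ?_ wj)).trans (push_push _ _ wj).symm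
      rw [S.X₂.map_comp, Category.assoc, S.g.naturality]
    exact (congrArg (push (D.map (a ≫ ψ))) hz).symm.trans ((push_comp_ext _ _ _ _ e₁ z).trans
      ((congrArg (fun t : Ext M (Si l).X₃ q => t.comp (hi l).extClass rfl) e₂).trans (push_extClass (hi l) _)))

/-- The criterion. -/
theorem extComm_of_acyclic {M : A}
    (hs : ∀ (D : Λ ⥤ A) (t : M ⟶ colimit D), ∃ (i : Λ) (s : M ⟶ D.obj i), s ≫ colimit.ι D i = t)
    (hi : ∀ (D : Λ ⥤ A) (i : Λ) (s : M ⟶ D.obj i), s ≫ colimit.ι D i = 0 → ∃ (j : Λ) (φ : i ⟶ j), s ≫ D.map φ = 0)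
    (hv : ∀ (q : ℕ) (I : Λ ⥤ A), (∀ i, Injective (I.obj i)) → Subsingleton (Ext M (colimit I) (q + 1)))
    (q : ℕ) : ExtComm M Λ q := by
  induction q with
  | zero => exact extComm_zero hs hi
  | succ q ih => exact extComm_succ ih (hv q)

/-- Colimit preservation from the element-wise statement. -/
theorem preservesColimitsOfShape_ext {M : A} {q : ℕ} (h : ExtComm M Λ q) :
    PreservesColimitsOfShape Λ ((extFunctor.{w} q).obj (op M)) where
  preservesColimit {D} := preservesColimit_of_preserves_colimit_cocone (colimit.isColimit D) (by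
    haveI : ReflectsColimitsOfShape Λ (forget AddCommGrpCat.{w}) := reflectsColimitsOfShape_of_reflectsIsomorphisms
    refine isColimitOfReflects (forget AddCommGrpCat.{w}) (Types.FilteredColimit.isColimitOf' _ _ (fun x => ?_) ?_)
    · obtain ⟨i, y, hy⟩ := (h D).1 x
      exact ⟨i, y, hy.symm⟩
    · intro i (x : Ext M (D.obj i) q) (y : Ext M (D.obj i) q) e
      obtain ⟨j, φ, hj⟩ := (h D).2 i (x - y) ((push_sub (colimit.ι D i) x y).trans (sub_eq_zero.2 e))
      exact ⟨j, φ, sub_eq_zero.1 ((push_sub (D.map φ) x y).symm.trans hj)⟩)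

/-- Pointwise vanishing passes to the colimit. -/
theorem subsingleton_ext_colimit {M : A} {q : ℕ} (h : ExtComm M Λ q) (D : Λ ⥤ A)
    (hD : ∀ i, Subsingleton (Ext M (D.obj i) q)) : Subsingleton (Ext M (colimit D) q) :=
  subsingleton_of_forall_eq 0 fun x => by
    obtain ⟨i, y, rfl⟩ := (h D).1 x
    haveI := hD i
    rw [Subsingleton.elim y 0, Ext.zero_comp]

omit [IsFiltered Λ] in
/-- The property only depends on the isomorphism class. -/
theorem ExtComm.of_iso {M M' : A} (e : M' ≅ M) {q : ℕ} (h : ExtComm M Λ q) : ExtComm M' Λ q := fun D => by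
  refine ⟨fun x => ?_, fun i y hy => ?_⟩
  · obtain ⟨i, y, hy⟩ := (h D).1 ((Ext.mk₀ e.inv).comp x (zero_add q))
    refine ⟨i, (Ext.mk₀ e.hom).comp y (zero_add q), ?_⟩
    rw [Ext.comp_assoc_of_third_deg_zero, hy, Ext.mk₀_comp_mk₀_assoc, e.hom_inv_id, Ext.mk₀_id_comp]
  · obtain ⟨j, φ, hj⟩ := (h D).2 i ((Ext.mk₀ e.inv).comp y (zero_add q)) (by
      rw [Ext.comp_assoc_of_third_deg_zero, hy, Ext.comp_zero])
    refine ⟨j, φ, ?_⟩
    rw [Ext.comp_assoc_of_third_deg_zero] at hj
    have := congrArg (fun t => (Ext.mk₀ e.hom).comp t (zero_add q)) hj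
    simpa using this

end FiltExtLib
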